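import Cfsg.Agent.Lib.BlockOrth.Integrality
import Cfsg.Agent.Lib.Blocks.QuotientP
import Cfsg.Agent.Lib.BlockOrth.PPart

/-!
# Regular inner products and central `p`-subgroups
-/

set_option autoImplicit false
set_option linter.style.haveILetI false
set_option linter.unusedSectionVars false

namespace CfsgLib.SmallCentralizer

open Cfsg CfsgLib.Chars CfsgLib.Blocks CfsgLib.BlockOrth Finset
open scoped ComplexConjugate

universe u

variable {H : Type u} [Group H] [Fintype H] {p : ℕ} [Fact p.Prime] {N : Subgroup H} [N.Normal]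
  [Fintype (H ⧸ N)]

theorem regular_mk {c : H} (hc : ¬ p ∣ orderOf c) : ¬ p ∣ orderOf (c : H ⧸ N) :=
  fun h => hc (h.trans (orderOf_map_dvd (QuotientGroup.mk' N) c))

/-- Regular elements of `H` are determined by their images. -/
theorem regular_mk_injective (hN : N ≤ Subgroup.center H) (hp : IsPGroup p N) {c d : H}
    (hc : ¬ p ∣ orderOf c) (hd : ¬ p ∣ orderOf d) (h : (c : H ⧸ N) = d) : c = d := by
  rw [QuotientGroup.eq] at h
  have hcomm : Commute (c⁻¹ * d) c :=
    (Subgroup.mem_center_iff.1 (hN h) c).symm
  have hk : ∃ k, orderOf (c⁻¹ * d) = p ^ k := by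
    obtain ⟨k, hk⟩ := (IsPGroup.iff_orderOf.1 hp) ⟨_, h⟩
    exact ⟨k, by rwa [← Subgroup.orderOf_coe] at hk⟩
  have h1 := pPrimePart_mul (p := p) hcomm hk hc
  have h2 : c⁻¹ * d * c = d := by rw [hcomm.eq, mul_inv_cancel_left]
  rw [h2, pPrimePart_of_regular hd] at h1
  exact h1.symm

/-- A sum over regular elements is a sum over regular elements of the quotient. -/
theorem sum_regular_eq (hN : N ≤ Subgroup.center H) (hp : IsPGroup p N) (F : H ⧸ N → ℂ) :
    ∑ c : H, (if ¬ p ∣ orderOf c then F c else 0) =
      ∑ q : H ⧸ N, (if ¬ p ∣ orderOf q then F q else 0) := by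
  classical
  rw [← Finset.sum_filter, ← Finset.sum_filter]
  refine Finset.sum_bij (fun c _ => (c : H ⧸ N)) (fun c hc => ?_) (fun c hc d hd h => ?_)
    (fun q hq => ?_) (fun _ _ => rfl)
  · exact mem_filter.2 ⟨mem_univ _, regular_mk (mem_filter.1 hc).2⟩
  · exact regular_mk_injective hN hp (mem_filter.1 hc).2 (mem_filter.1 hd).2 h
  · obtain ⟨y, hy, rfl⟩ := exists_regular_lift q (mem_filter.1 hq).2
    exact ⟨y, mem_filter.2 ⟨mem_univ _, hy⟩, rfl⟩

variable (p)

/-- A regular preimage of the `p'`-part. -/
noncomputable def regLift (q : H ⧸ N) : H :=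
  (exists_regular_lift (pPrimePart p q) (not_dvd_orderOf_pPrimePart q)).choose

theorem regLift_spec (q : H ⧸ N) :
    ¬ p ∣ orderOf (regLift p q) ∧ ((regLift p q : H) : H ⧸ N) = pPrimePart p q :=
  (exists_regular_lift (pPrimePart p q) (not_dvd_orderOf_pPrimePart q)).choose_spec

/-- The function of the quotient agreeing with a given function at regular elements. -/
noncomputable def transfer (f : H → ℂ) (q : H ⧸ N) : ℂ := f (regLift p q)

variable {p}

theorem transfer_regular (hN : N ≤ Subgroup.center H) (hp : IsPGroup p N) (f : H → ℂ) {c : H}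
    (hc : ¬ p ∣ orderOf c) : transfer p f (c : H ⧸ N) = f c := by
  refine congrArg f (regular_mk_injective hN hp (regLift_spec p _).1 hc ?_)
  rw [(regLift_spec p _).2, pPrimePart_of_regular (regular_mk hc)]

theorem transfer_pPrimePart (hN : N ≤ Subgroup.center H) (hp : IsPGroup p N) (f : H → ℂ)
    (q : H ⧸ N) : transfer p f q = transfer p f (pPrimePart p q) := by
  refine congrArg f (regular_mk_injective hN hp (regLift_spec p _).1 (regLift_spec p _).1 ?_)
  rw [(regLift_spec p _).2, (regLift_spec p _).2, pPrimePart_idem]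

theorem isClassFunction_transfer (hN : N ≤ Subgroup.center H) (hp : IsPGroup p N) {f : H → ℂ}
    (hf : IsClassFunction H f) : IsClassFunction (H ⧸ N) (transfer p f) := by
  intro q r
  obtain ⟨g, rfl⟩ := QuotientGroup.mk_surjective r
  have he : regLift p ((g : H ⧸ N) * q * (g : H ⧸ N)⁻¹) = g * regLift p q * g⁻¹ := by
    refine regular_mk_injective hN hp (regLift_spec p _).1 ?_ ?_
    · rw [show orderOf (g * regLift p q * g⁻¹) = orderOf (regLift p q) from
        orderOf_injective (MulAut.conj g).toMonoidHom (MulAut.conj g).injective _]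
      exact (regLift_spec p q).1
    · rw [(regLift_spec p _).2, pPrimePart_conj, QuotientGroup.mk_mul, QuotientGroup.mk_mul,
        QuotientGroup.mk_inv, (regLift_spec p q).2]
  show f _ = f _
  rw [he]
  exact hf _ _

/-- The transfer lies in the local span of the characters of the quotient. -/
theorem inCharSpan_transfer (hN : N ≤ Subgroup.center H) (hp : IsPGroup p N) {f : H → ℂ}
    (hf : IsClassFunction H f) {M : Ideal AlgInt} [M.IsPrime] (hpM : (p : AlgInt) ∈ M)
    (hval : ∀ c, IsIntegral ℤ (f c)) : InCharSpan (loc M) (transfer p f (N := N)) :=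
  inCharSpan_of_pPrimePart hpM (isClassFunction_transfer hN hp hf)
    (fun _ => isIntegral_mem_loc (hval _)) (transfer_pPrimePart hN hp f)

/-- The regular inner product with an inflated function. -/
theorem card_mul_inner_inflate (hN : N ≤ Subgroup.center H) (hp : IsPGroup p N) (f : H → ℂ)
    (η : H ⧸ N → ℂ) :
    (Nat.card N : ℂ) * classInner (pRegularPart p f) (η ∘ QuotientGroup.mk) =
      classInner (pRegularPart p (transfer p f)) η := by
  classical
  have h : ∑ c : H, pRegularPart p f c * conj ((η ∘ QuotientGroup.mk) c) =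
      ∑ q : H ⧸ N, pRegularPart p (transfer p f) q * conj (η q) := by
    simp only [pRegularPart_apply]
    refine (Eq.trans ?_ (sum_regular_eq hN hp (fun q => transfer p f q * conj (η q)))).trans ?_
    · refine Finset.sum_congr rfl fun c _ => ?_
      by_cases hc : p ∣ orderOf c
      · simp [hc]
      · simp [hc, transfer_regular hN hp f hc]
    · refine Finset.sum_congr rfl fun q _ => ?_
      by_cases hq : p ∣ orderOf q <;> simp [hq]
  rw [inner_def, inner_def, h, ← mul_assoc]
  congr 1
  rw [Subgroup.card_eq_card_quotient_mul_card_subgroup N, Nat.cast_mul, mul_inv,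
    mul_left_comm, mul_inv_cancel₀ (Nat.cast_ne_zero.2 Nat.card_pos.ne'), mul_one]

/-- The regular norm of an inflated function. -/
theorem card_mul_inner_inflate_self (hN : N ≤ Subgroup.center H) (hp : IsPGroup p N)
    (η : H ⧸ N → ℂ) :
    (Nat.card N : ℂ) * classInner (pRegularPart p (η ∘ QuotientGroup.mk)) (η ∘ QuotientGroup.mk) =
      classInner (pRegularPart p η) η := by
  rw [card_mul_inner_inflate hN hp]
  congr 1
  funext q
  simp only [pRegularPart_apply]
  split_ifs with hq
  · rfl
  · show η ((regLift p q : H) : H ⧸ N) = η q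
    rw [(regLift_spec p q).2, pPrimePart_of_regular hq]

end CfsgLib.SmallCentralizer
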