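import Cfsg.Agent.Lib.CharApps.SmallCentralizer.GaloisBound
import Cfsg.Agent.Lib.CharApps.SmallCentralizer.CentralQuotient
import Cfsg.Agent.Lib.BlockOrth.Subsection
import Cfsg.Agent.Lib.BlockOrth.Contribution
import Cfsg.Agent.Lib.BlockOrth.Height
import Cfsg.Agent.Lib.Blocks.DefectOneStructure
import Cfsg.Agent.Lib.Blocks.FreePrincipal
import Cfsg.Agent.Lib.Blocks.PrincipalBlock

/-!
# Characters of degree prime to `p` in the principal block and small centralizers

The subsection at `x` gives, for each such character, a nonzero vector of algebraic integers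
indexed by the principal block of `C(x) / ⟨x⟩`; the mean of its squared length over the Galois
group is bounded below, while the sum over all characters is known.
-/

set_option autoImplicit false
set_option linter.style.haveILetI false
set_option linter.unusedSectionVars false

namespace CfsgLib.SmallCentralizer

open Cfsg CfsgLib.Chars CfsgLib.Blocks CfsgLib.BlockOrth CfsgLib.CharApps Finset
open scoped ComplexConjugate IntermediateField

universe u

variable {G : Type u} [Group G] [Fintype G] {M : Ideal AlgInt} [M.IsPrime] {p : ℕ} [Fact p.Prime]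

/-- A combinatorial bound: a vector that is not zero differs in enough pairs of entries. -/
theorem count_bound {ι : Type*} [Fintype ι] [DecidableEq ι] (D : ι → ℂ) (m : ℕ) (hm : 1 ≤ m)
    {i₀ : ι} (h0 : D i₀ ≠ 0) :
    (Fintype.card ι : ℝ) ≤ ∑ i, (if D i ≠ 0 then (1 : ℝ) else 0) +
      (m : ℝ) / 2 * ∑ i, ∑ j, (if D i ≠ D j then (1 : ℝ) else 0) := by
  classical
  set U : Finset ι := univ.filter fun i => D i ≠ 0 with hU
  have hu : ∑ i, (if D i ≠ 0 then (1 : ℝ) else 0) = (U.card : ℝ) := by
    rw [Finset.sum_boole]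
  have hpair : ∀ i j : ι, ((if i ∈ U ∧ j ∉ U then (1 : ℝ) else 0) +
      (if i ∉ U ∧ j ∈ U then (1 : ℝ) else 0)) ≤ if D i ≠ D j then 1 else 0 := by
    intro i j
    simp only [hU, mem_filter, mem_univ, true_and, not_not]
    by_cases hi : D i = 0 <;> by_cases hj : D j = 0 <;> simp [hi, hj, eq_comm]
    split_ifs <;> norm_num
  have hbox : ∀ A B : Finset ι,
      ∑ i, ∑ j, (if i ∈ A ∧ j ∈ B then (1 : ℝ) else 0) = A.card * B.card := by
    intro A B
    rw [← Finset.sum_product', Finset.sum_boole, ← Nat.cast_mul, ← Finset.card_product]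
    congr 2
    ext ⟨i, j⟩
    simp
  have hsum : (2 : ℝ) * U.card * Uᶜ.card ≤ ∑ i, ∑ j, (if D i ≠ D j then (1 : ℝ) else 0) := by
    refine le_trans (le_of_eq ?_) (Finset.sum_le_sum fun i _ => Finset.sum_le_sum fun j _ => hpair i j)
    simp only [Finset.sum_add_distrib, ← Finset.mem_compl]
    rw [hbox, hbox]
    ring
  have hc : (Fintype.card ι : ℝ) = U.card + Uᶜ.card := by
    exact_mod_cast (Finset.card_add_card_compl U).symm
  have hU1 : (1 : ℝ) ≤ U.card := by
    exact_mod_cast Finset.card_pos.2 ⟨i₀, mem_filter.2 ⟨mem_univ _, h0⟩⟩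
  have hm' : (1 : ℝ) ≤ m := by exact_mod_cast hm
  have h0' : (0 : ℝ) ≤ (Uᶜ.card : ℝ) := Nat.cast_nonneg _
  rw [hu, hc]
  nlinarith [mul_le_mul hm' hsum (by positivity) (by positivity),
    mul_nonneg (sub_nonneg.2 hU1) h0']

theorem quad_real {ι : Type*} [Fintype ι] (v : ι → ℝ) (m p : ℝ)
    (hp : p = 1 + m * Fintype.card ι) :
    ∑ i, (p * v i - m * ∑ j, v j) ^ 2 + m * (∑ j, v j) ^ 2 =
      p * (∑ i, v i ^ 2 + m / 2 * ∑ i, ∑ j, (v i - v j) ^ 2) := by
  set S := ∑ j, v j with hS
  set Q := ∑ i, v i ^ 2 with hQ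
  have h1 : ∑ i, (p * v i - m * S) ^ 2 = p ^ 2 * Q - 2 * p * m * S * S + Fintype.card ι * (m * S) ^ 2 := by
    calc ∑ i, (p * v i - m * S) ^ 2
        = ∑ i, (p ^ 2 * v i ^ 2 - 2 * p * m * S * v i + (m * S) ^ 2) :=
          Finset.sum_congr rfl fun i _ => by ring
      _ = _ := by
          rw [Finset.sum_add_distrib, Finset.sum_sub_distrib, ← Finset.mul_sum, ← Finset.mul_sum,
            Finset.sum_const, Finset.card_univ, nsmul_eq_mul]
  have h2 : ∑ i, ∑ j, (v i - v j) ^ 2 = 2 * Fintype.card ι * Q - 2 * S * S := by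
    calc ∑ i, ∑ j, (v i - v j) ^ 2
        = ∑ i, ∑ j, (v i ^ 2 + v j ^ 2 - 2 * v i * v j) :=
          Finset.sum_congr rfl fun i _ => Finset.sum_congr rfl fun j _ => by ring
      _ = ∑ i, (Fintype.card ι * v i ^ 2 + Q - 2 * v i * S) :=
          Finset.sum_congr rfl fun i _ => by
            rw [Finset.sum_sub_distrib, Finset.sum_add_distrib, Finset.sum_const, Finset.card_univ,
              nsmul_eq_mul, ← Finset.mul_sum]
      _ = _ := by
          rw [Finset.sum_sub_distrib, Finset.sum_add_distrib, Finset.sum_const, Finset.card_univ,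
            nsmul_eq_mul, ← Finset.mul_sum, ← Finset.sum_mul, ← Finset.mul_sum]
          ring
  rw [h1, h2, hp]
  ring

theorem quad_complex {ι : Type*} [Fintype ι] (v : ι → ℂ) (m p : ℕ)
    (hp : p = 1 + m * Fintype.card ι) :
    ∑ i, Complex.normSq ((p : ℂ) * v i - (m : ℂ) * ∑ j, v j) +
        (m : ℝ) * Complex.normSq (∑ j, v j) =
      (p : ℝ) * (∑ i, Complex.normSq (v i) +
        (m : ℝ) / 2 * ∑ i, ∑ j, Complex.normSq (v i - v j)) := by
  have hp' : (p : ℝ) = 1 + (m : ℝ) * Fintype.card ι := by exact_mod_cast hp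
  have hre := quad_real (fun i => (v i).re) m p hp'
  have him := quad_real (fun i => (v i).im) m p hp'
  simp only [Complex.normSq_apply, Complex.sub_re, Complex.sub_im, Complex.mul_re, Complex.mul_im,
    Complex.natCast_re, Complex.natCast_im, zero_mul, sub_zero, add_zero, Complex.re_sum,
    Complex.im_sum, Finset.sum_add_distrib]
  simp only [← pow_two]
  linarith

variable {H : Subgroup G} [Fintype H] {x : G} {N : Subgroup H} [N.Normal] [Fintype (H ⧸ N)]

/-- The contribution of a character at an inflated character of the quotient. -/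
noncomputable def xval (p : ℕ) (H : Subgroup G) [Fintype H] (x : G) (N : Subgroup H) [N.Normal]
    (χ : IrrCharacter G) (η : H ⧸ N → ℂ) : ℂ :=
  pInner p (secFun H x (χ : G → ℂ)) (η ∘ QuotientGroup.mk)

theorem isCharacter_infl (η : IrrCharacter (H ⧸ N)) :
    IsCharacter H ((η : H ⧸ N → ℂ) ∘ QuotientGroup.mk) :=
  isCharacter_of_irr (isIrrCharacter_inflate N η.2)

/-- The expansion of a contribution. -/
theorem xval_eq_sum (hH : ∀ c : G, c ∈ H ↔ c * x = x * c) [Fintype (IrrCharacter H)]
    (χ : IrrCharacter G) (η : H ⧸ N → ℂ) :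
    xval p H x N χ η = ∑ θ : IrrCharacter H,
      centralScalar (θ : H → ℂ) ⟨x, (hH x).2 rfl⟩ *
        classInner (fun h : H => (χ : G → ℂ) h) (θ : H → ℂ) *
        pInner p (θ : H → ℂ) (η ∘ QuotientGroup.mk) := by
  have h := classFun_eq_sum (isClassFunction_secFun hH (isClassFunction_irr χ))
  rw [xval, pInner]
  conv_lhs => rw [h]
  rw [pRegularPart_sum, Chars.inner_sum_left, Finset.mul_sum]
  refine Finset.sum_congr rfl fun θ _ => ?_
  rw [pRegularPart_smul, Chars.inner_smul_left, inner_secFun_eq hH, pInner]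
  ring

theorem xval_mem (hH : ∀ c : G, c ∈ H ↔ c * x = x * c) [NeZero (Nat.card G)]
    (χ : IrrCharacter G) (η : IrrCharacter (H ⧸ N)) :
    xval p H x N χ η ∈ ℚ⟮rootN (Nat.card G)⟯ := by
  haveI := irrFintype H
  rw [xval_eq_sum hH]
  refine sum_mem fun θ _ => ?_
  obtain ⟨m, hm⟩ := inner_irr_right_nat (isCharacter_restrict H (isCharacter_of_irr χ.2)) θ
  obtain ⟨n, hn⟩ := exists_int_pInner p (isCharacter_of_irr θ.2) (isCharacter_infl η)
  rw [hm, hn]
  exact mul_mem (mul_mem (root_mem_cyclo (centralScalar_self_pow hH pow_card_eq_one' θ))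
    (natCast_mem _ _)) (intCast_mem _ _)

theorem isIntegral_xval (hH : ∀ c : G, c ∈ H ↔ c * x = x * c)
    (χ : IrrCharacter G) (η : IrrCharacter (H ⧸ N)) :
    IsIntegral ℤ (xval p H x N χ η) := by
  haveI := irrFintype H
  rw [xval_eq_sum hH]
  refine IsIntegral.sum _ fun θ _ => ?_
  obtain ⟨m, hm⟩ := inner_irr_right_nat (isCharacter_restrict H (isCharacter_of_irr χ.2)) θ
  obtain ⟨n, hn⟩ := exists_int_pInner p (isCharacter_of_irr θ.2) (isCharacter_infl η)
  rw [hm, hn]
  refine ((IsIntegral.of_pow (orderOf_pos x) (by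
    rw [centralScalar_self_pow hH (pow_orderOf_eq_one x) θ]; exact isIntegral_one)).mul ?_).mul ?_
  · exact_mod_cast isIntegral_algebraMap (R := ℤ) (A := ℂ) (x := (m : ℤ))
  · exact isIntegral_algebraMap (R := ℤ) (A := ℂ) (x := n)

/-- The total of the squares of the contributions. -/
theorem sum_xval_mul_conj [Fintype (IrrCharacter G)] (hH : ∀ c : G, c ∈ H ↔ c * x = x * c)
    (hx : ∃ k, orderOf x = p ^ k) (η : IrrCharacter (H ⧸ N)) :
    ∑ χ : IrrCharacter G, xval p H x N χ η * conj (xval p H x N χ η) =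
      ((p ^ (Nat.card H).factorization p : ℕ) : ℂ) ^ 2 *
        classInner (pRegularPart p ((η : H ⧸ N → ℂ) ∘ QuotientGroup.mk))
          ((η : H ⧸ N → ℂ) ∘ QuotientGroup.mk) := by
  rw [← sum_irr_inner_secFun hH hx
    (isClassFunction_of_isCharacter (isCharacter_infl η)), Finset.mul_sum]
  refine Finset.sum_congr rfl fun χ _ => ?_
  rw [xval, pInner, map_mul, map_natCast]
  ring

/-- The counting principle. -/
theorem card_mul_le [Fintype (IrrCharacter G)] [NeZero (Nat.card G)]
    (hH : ∀ c : G, c ∈ H ↔ c * x = x * c) (hx : ∃ k, orderOf x = p ^ k)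
    (hN : N ≤ Subgroup.center H) (hp : IsPGroup p N)
    (S : Finset (IrrCharacter G)) (T : Finset (IrrCharacter (H ⧸ N))) (L : ℝ) (R : ℕ)
    (hL : ∀ χ ∈ S, (Fintype.card (ZMod (Nat.card G))ˣ : ℝ) * L ≤
      ∑ k : (ZMod (Nat.card G))ˣ, ∑ η ∈ T, Complex.normSq (gal k (xval p H x N χ η)))
    (hR : ((p ^ (Nat.card H).factorization p : ℕ) : ℂ) ^ 2 *
      ∑ η ∈ T, classInner (pRegularPart p (η : H ⧸ N → ℂ)) (η : H ⧸ N → ℂ) =
      (Nat.card N : ℂ) * R) :
    (S.card : ℝ) * L ≤ R := by
  set φ : ℝ := (Fintype.card (ZMod (Nat.card G))ˣ : ℝ) with hφ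
  have hφ0 : 0 < φ := by rw [hφ]; exact_mod_cast Fintype.card_pos
  have htot : ∀ k : (ZMod (Nat.card G))ˣ,
      ∑ χ : IrrCharacter G, ∑ η ∈ T, Complex.normSq (gal k (xval p H x N χ η)) = (R : ℝ) := by
    intro k
    have h1 : ∑ η ∈ T, ∑ χ : IrrCharacter G, xval p H x N χ η * conj (xval p H x N χ η) =
        (R : ℂ) := by
      refine mul_left_cancel₀ (Nat.cast_ne_zero.2 (Nat.card_pos (α := N)).ne') ?_
      rw [← hR, Finset.mul_sum, Finset.mul_sum]
      refine Finset.sum_congr rfl fun η _ => ?_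
      rw [sum_xval_mul_conj hH hx, mul_left_comm, card_mul_inner_inflate_self hN hp]
    have h2 := congrArg (gal k) h1
    rw [map_natCast, map_sum, Finset.sum_congr rfl fun η _ => map_sum (gal k) _ _,
      Finset.sum_comm] at h2
    apply Complex.ofReal_injective
    rw [Complex.ofReal_natCast, ← h2, Complex.ofReal_sum]
    refine Finset.sum_congr rfl fun χ _ => ?_
    rw [Complex.ofReal_sum]
    refine Finset.sum_congr rfl fun η _ => ?_
    rw [map_mul, gal_conj k (xval_mem hH χ η), Complex.mul_conj]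
  have h3 : φ * ((S.card : ℝ) * L) ≤ φ * R := by
    calc φ * ((S.card : ℝ) * L) = ∑ _χ ∈ S, φ * L := by
          rw [Finset.sum_const, nsmul_eq_mul]; ring
      _ ≤ ∑ χ ∈ S, ∑ k : (ZMod (Nat.card G))ˣ, ∑ η ∈ T,
            Complex.normSq (gal k (xval p H x N χ η)) := Finset.sum_le_sum hL
      _ ≤ ∑ χ : IrrCharacter G, ∑ k : (ZMod (Nat.card G))ˣ, ∑ η ∈ T,
            Complex.normSq (gal k (xval p H x N χ η)) :=
          Finset.sum_le_sum_of_subset_of_nonneg (Finset.subset_univ _) fun _ _ _ =>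
            Finset.sum_nonneg fun _ _ => Finset.sum_nonneg fun _ _ => Complex.normSq_nonneg _
      _ = φ * R := by
          rw [Finset.sum_comm, Finset.sum_congr rfl fun k _ => htot k, Finset.sum_const,
            Finset.card_univ, nsmul_eq_mul]
  exact le_of_mul_le_mul_left h3 hφ0

/-- The contribution at the principal character does not vanish. -/
theorem xval_principal_ne_zero (hM : IsPModular p M) {C : Subgroup G} [Fintype C]
    (hH : ∀ c : G, c ∈ C ↔ c * x = x * c)
    (hx : ∃ k, orderOf x = p ^ k) (N : Subgroup C) [N.Normal]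
    {χ : IrrCharacter G} (hχ : χ ∈ principalBlock M G) (hdeg : ¬ p ∣ charDegree (χ : G → ℂ)) :
    xval p C x N χ (principal (C ⧸ N) : C ⧸ N → ℂ) ≠ 0 := by
  obtain rfl : C = Subgroup.centralizer ({x} : Set G) :=
    Subgroup.ext fun c => (hH c).trans Subgroup.mem_centralizer_singleton_iff.symm
  have hb : IsInducedBlock M (Subgroup.centralizer ({x} : Set G))
      (principalBlock M (Subgroup.centralizer ({x} : Set G))) (principalBlock M G) := by
    have h := (Set.ext_iff.1 (setOf_inducing_principalBlock (M := M) hM hx) (principal (Subgroup.centralizer ({x} : Set G)))).2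
      (principal_mem_principalBlock M)
    rw [Set.mem_setOf_eq,
      ← IsPBlock.eq_blockOf (isPBlock_principalBlock M) (principal_mem_principalBlock M)] at h
    exact h
  have h0 : degVal p χ = blockMin p (principalBlock M G) := by
    have h1 : degVal p χ = 0 := Nat.factorization_eq_zero_of_not_dvd hdeg
    have h2 := blockMin_le (p := p) hχ
    omega
  intro hzero
  refine not_memLocalIdeal_secFun hM.2.2 hH hx hb hχ h0 (principal_mem_principalBlock M) ?_
  have e : pInner p (secFun (Subgroup.centralizer ({x} : Set G)) x (χ : G → ℂ))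
      (principal (Subgroup.centralizer ({x} : Set G)) : _ → ℂ) = 0 := hzero
  rw [e, zero_div]
  exact MemLocalIdeal.zero'

/-- The case of a `p'`-quotient. -/
theorem card_le_of_regular_quotient (hM : IsPModular p M) {C : Subgroup G}
    [Fintype C] (hH : ∀ c : G, c ∈ C ↔ c * x = x * c) (hx : ∃ k, orderOf x = p ^ k)
    (N : Subgroup C) [N.Normal]
    (hN : N ≤ Subgroup.center C) (hp : IsPGroup p N) (hidx : ¬ p ∣ N.index) :
    Nat.card {χ : IrrCharacter G // χ ∈ principalBlock M G ∧ ¬ p ∣ charDegree (χ : G → ℂ)} ≤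
      p ^ (Nat.card C).factorization p := by
  classical
  haveI := irrFintype G
  haveI : NeZero (Nat.card G) := ⟨Nat.card_pos.ne'⟩
  haveI : Fintype (C ⧸ N) := Fintype.ofFinite _
  have hNcard : Nat.card N = p ^ (Nat.card C).factorization p := by
    obtain ⟨k, hk⟩ := IsPGroup.iff_card.1 hp
    rw [hk]
    congr 1
    rw [← Subgroup.index_mul_card N, hk, Nat.factorization_mul Subgroup.index_ne_zero_of_finite
      (pow_ne_zero _ (Fact.out : p.Prime).ne_zero), Finsupp.add_apply,
      Nat.factorization_eq_zero_of_not_dvd hidx, Nat.Prime.factorization_pow Fact.out,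
      Finsupp.single_eq_same, zero_add]
  rw [Nat.card_eq_fintype_card, Fintype.card_subtype]
  have h := card_mul_le (p := p) (x := x) hH hx hN hp
    (univ.filter fun χ : IrrCharacter G => χ ∈ principalBlock M G ∧ ¬ p ∣ charDegree (χ : G → ℂ))
    {principal (C ⧸ N)} 1 (p ^ (Nat.card C).factorization p) (fun χ hχ => ?_) ?_
  · rw [mul_one] at h
    exact_mod_cast h
  · obtain ⟨hχ1, hχ2⟩ := (mem_filter.1 hχ).2
    rw [mul_one]
    refine le_trans ?_ (le_of_eq (Finset.sum_congr rfl fun k _ => (Finset.sum_singleton _ _).symm))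
    exact totient_le_sum_normSq (xval_mem hH χ _) (isIntegral_xval hH χ _)
      (xval_principal_ne_zero hM hH hx N hχ1 hχ2)
  · rw [Finset.sum_singleton]
    have h1 : classInner (pRegularPart p (principal (C ⧸ N) : C ⧸ N → ℂ))
        (principal (C ⧸ N) : C ⧸ N → ℂ) = 1 := by
      rw [show pRegularPart p (principal (C ⧸ N) : C ⧸ N → ℂ) = (principal (C ⧸ N) : C ⧸ N → ℂ) by
        funext q
        rw [pRegularPart_apply, if_pos]
        intro h
        exact hidx (h.trans (orderOf_dvd_natCard q))]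
      exact inner_irr_self _
    rw [h1, mul_one, hNcard, pow_two]

section Quotient

variable {Q : Type u} [Group Q] [Fintype Q]

/-- The signs of a block of defect one are inverse to the values at the singular elements. -/
theorem sign_mul_apply_singular (hM : IsPModular p M) (P : Sylow p Q) (hP : Nat.card P = p)
    [Fintype (Subgroup.centralizer ((P : Subgroup Q) : Set Q))]
    {η : IrrCharacter Q} (hη : η ∈ principalBlock M Q) {a : ℤ} (ha : a = 1 ∨ a = -1)
    (hxi : ∀ u : (P : Subgroup Q), u ≠ 1 →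
      xiFun (principalBlock M (Subgroup.centralizer ((P : Subgroup Q) : Set Q))) (η : Q → ℂ) u = (a : ℂ))
    {s : Q} (hs : p ∣ orderOf s) : (a : ℂ) * (η : Q → ℂ) s = 1 := by
  classical
  have hcard : Nat.card (P : Subgroup Q) = p := hP
  have hsq : ¬ p ^ 2 ∣ Nat.card Q := by
    intro h
    have h1 : Nat.card P = p ^ (Nat.card Q).factorization p := P.card_eq_multiplicity
    rw [hP] at h1
    have h2 : (Nat.card Q).factorization p = 1 :=
      Nat.pow_right_injective (Fact.out : p.Prime).two_le ((h1.symm).trans (pow_one p).symm)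
    have h3 := ((Fact.out : p.Prime).pow_dvd_iff_le_factorization Nat.card_pos.ne').1 h
    omega
  obtain ⟨u, h1, h2, hk, h4⟩ := isPPrimePart_pPrimePart (p := p) s
  set y := pPrimePart p s with hy
  have hu1 : u ≠ 1 := by
    rintro rfl
    rw [one_mul] at h1
    exact h4 (h1 ▸ hs)
  obtain ⟨k, hk⟩ := hk
  have hzp : IsPGroup p (Subgroup.zpowers u) :=
    IsPGroup.of_card (n := k) (by rw [Nat.card_zpowers, hk])
  obtain ⟨R, hR⟩ := hzp.exists_le_sylow
  obtain ⟨g, hg⟩ := MulAction.exists_smul_eq Q R P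
  set u' := g * u * g⁻¹ with hu'
  have hu'P : u' ∈ (P : Subgroup Q) := by
    rw [← hg]
    exact ⟨u, hR (Subgroup.mem_zpowers u), rfl⟩
  set y' := g * y * g⁻¹ with hy'
  have hcomm : Commute u' y' := h2.map (MulAut.conj g).toMonoidHom
  have hu'1 : u' ≠ 1 := fun h => hu1 (conj_eq_one_iff.1 h)
  have hz : Subgroup.zpowers u' = (P : Subgroup Q) := Blocks.zpowers_eq_of_prime hcard hu'P hu'1
  have hyC : y' ∈ Subgroup.centralizer ((P : Subgroup Q) : Set Q) := by
    rw [← hz, Subgroup.mem_centralizer_iff]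
    rintro w ⟨n, rfl⟩
    exact (hcomm.zpow_left n).eq
  have hy'reg : ¬ p ∣ orderOf y' := by
    rwa [show orderOf y' = orderOf y from
      orderOf_injective (MulAut.conj g).toMonoidHom (MulAut.conj g).injective y]
  have hval : (η : Q → ℂ) s = (η : Q → ℂ) (u' * y') := by
    rw [show u' * y' = g * s * g⁻¹ by rw [← h1, hu', hy']; group]
    exact (isClassFunction_irr η s g).symm
  have h5 := secVal_principal hM hη hcomm ⟨1, by rw [pow_one, show p = orderOf u' by rw [← Nat.card_zpowers, hz, hcard], pow_orderOf_eq_one]⟩ hy'reg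
  rw [hz] at h5
  have h6 := secVal_pair_eq hM hcard hsq
    (isBrauerPairOf_principalPair (M := M) hM.2.2 (P.isPGroup'))
    (θ := principal (Subgroup.centralizer ((P : Subgroup Q) : Set Q)))
    (principal_mem_principalBlock M) (fun _ _ => rfl) η
    (u := ⟨u', hu'P⟩) (fun h => hu'1 (congrArg Subtype.val h))
    (y := ⟨y', hyC⟩) (by rwa [← Subgroup.orderOf_coe])
  rw [hval, ← h5]
  rw [show (principalPair M (P : Subgroup Q)) = ⟨(P : Subgroup Q),
    principalBlock M (Subgroup.centralizer ((P : Subgroup Q) : Set Q))⟩ from rfl]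
  refine (congrArg ((a : ℂ) * ·) h6).trans ?_
  rw [hxi _ (fun h => hu'1 (congrArg Subtype.val h)), principal_apply, mul_one]
  rcases ha with rfl | rfl <;> norm_num

end Quotient

/-- The case of a quotient with Sylow subgroups of order `p`. -/
theorem card_le_of_prime_quotient (hM : IsPModular p M) {C : Subgroup G}
    [Fintype C] (hH : ∀ c : G, c ∈ C ↔ c * x = x * c) (hx : ∃ k, orderOf x = p ^ k)
    (N : Subgroup C) [N.Normal]
    (hN : N ≤ Subgroup.center C) (hNp : Nat.card N = p)
    (ha : (Nat.card C).factorization p = 2) :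
    Nat.card {χ : IrrCharacter G // χ ∈ principalBlock M G ∧ ¬ p ∣ charDegree (χ : G → ℂ)} ≤
      p ^ 2 := by
  classical
  have hpM := hM.2.2
  have hpp : p.Prime := Fact.out
  haveI := irrFintype G
  haveI : NeZero (Nat.card G) := ⟨Nat.card_pos.ne'⟩
  haveI : Fintype (C ⧸ N) := Fintype.ofFinite _
  haveI := irrFintype (C ⧸ N)
  have hp : IsPGroup p N := IsPGroup.of_card (n := 1) (by rw [hNp, pow_one])
  have hfac : (Nat.card (C ⧸ N)).factorization p = 1 := by
    have h := ha
    rw [Subgroup.card_eq_card_quotient_mul_card_subgroup N, hNp,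
      Nat.factorization_mul Nat.card_pos.ne' hpp.ne_zero, Finsupp.add_apply,
      hpp.factorization_self] at h
    omega
  obtain ⟨P⟩ : Nonempty (Sylow p (C ⧸ N)) := inferInstance
  have hP : Nat.card P = p := by rw [P.card_eq_multiplicity, hfac, pow_one]
  have hsq : ¬ p ^ 2 ∣ Nat.card (C ⧸ N) := fun h => by
    have := (hpp.pow_dvd_iff_le_factorization Nat.card_pos.ne').1 h
    omega
  haveI : Fintype (Subgroup.centralizer ((P : Subgroup (C ⧸ N)) : Set (C ⧸ N))) := Fintype.ofFinite _
  obtain ⟨Y, ε, a, hε, hY, hcardY, hcardX, hrank, -, hXi, -, -, hθ, -, -, -⟩ :=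
    defect_one_structure hM (P := (P : Subgroup (C ⧸ N))) hP hsq
      (isBrauerPairOf_principalPair (M := M) hpM P.isPGroup')
  set b := principalBlock M (C ⧸ N) with hb
  obtain ⟨e, he⟩ : ∃ e, e = (Subgroup.centralizer ((P : Subgroup (C ⧸ N)) : Set (C ⧸ N))).relIndex
      (stabPair ⟨(P : Subgroup (C ⧸ N)),
        principalBlock M (Subgroup.centralizer ((P : Subgroup (C ⧸ N)) : Set (C ⧸ N)))⟩) := ⟨_, rfl⟩
  rw [← he] at hcardY hcardX hrank
  set m := Nat.card Y with hm
  have hm1 : 1 ≤ m := by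
    rcases Nat.eq_zero_or_pos m with h | h
    · rw [h, zero_mul, zero_add] at hcardY
      exact absurd hcardY.symm hpp.ne_one
    · exact h
  have he0 : 0 < e := by
    rcases Nat.eq_zero_or_pos e with h | h
    · rw [h, mul_zero, zero_add] at hcardY
      exact absurd hcardY.symm hpp.ne_one
    · exact h
  have hXcard : Fintype.card {η // η ∈ b \ Y} = e := by
    rw [← hcardX, Nat.card_eq_fintype_card]
  have hsign : ∀ η ∈ b \ Y, a η = 1 ∨ a η = -1 := fun η hη => (hXi η hη).1
  have hsing : ∀ η ∈ b \ Y, ∀ s, p ∣ orderOf s → (a η : ℂ) * (η : C ⧸ N → ℂ) s = 1 :=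
    fun η hη s hs => sign_mul_apply_singular hM P hP hη.1 (hsign η hη) (hXi η hη).2 hs
  have hεε : (ε : ℂ) * ε = 1 := by rcases hε with rfl | rfl <;> norm_num
  rw [Nat.card_eq_fintype_card, Fintype.card_subtype]
  have hmain := card_mul_le (p := p) (x := x) hH hx hN hp
    (univ.filter fun χ : IrrCharacter G => χ ∈ principalBlock M G ∧ ¬ p ∣ charDegree (χ : G → ℂ))
    (univ.filter (· ∈ b)) ((p * e : ℕ) : ℝ) (p ^ 3 * e) ?_ ?_
  · have h1 : ((univ.filter fun χ : IrrCharacter G =>
        χ ∈ principalBlock M G ∧ ¬ p ∣ charDegree (χ : G → ℂ)).card * (p * e) : ℕ) ≤ p ^ 3 * e := by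
      exact_mod_cast hmain
    rw [show p ^ 3 * e = p ^ 2 * (p * e) by ring] at h1
    exact Nat.le_of_mul_le_mul_right h1 (Nat.mul_pos hpp.pos he0)
  swap
  · rw [← blockRank_eq_sum hpM (isPBlock_principalBlock M), hrank, ha, hNp]
    push_cast
    ring
  intro χ hχ
  obtain ⟨hχ1, hχ2⟩ := (mem_filter.1 hχ).2
  set f : C → ℂ := secFun C x (χ : G → ℂ) with hf
  have hfcl : IsClassFunction C f := isClassFunction_secFun hH (isClassFunction_irr χ)
  set φ : C ⧸ N → ℂ := transfer p f with hφ
  set v : IrrCharacter (C ⧸ N) → ℂ := fun η => xval p C x N χ η with hv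
  have hvφ : ∀ η : IrrCharacter (C ⧸ N),
      v η = (p : ℂ) * classInner (pRegularPart p φ) (η : C ⧸ N → ℂ) := by
    intro η
    rw [hv, hφ, ← card_mul_inner_inflate hN hp, hNp]
    show pInner p f _ = _
    rw [pInner, ha, Nat.cast_pow, pow_two, mul_assoc]
  let I := {η // η ∈ b \ Y}
  let X : I → ℂ := fun i => (a i.1 : ℂ) * v i.1
  let δ : I → I → ℂ := fun j i => (a j.1 : ℂ) * classInner φ (j.1 : C ⧸ N → ℂ) -
    (a i.1 : ℂ) * classInner φ (i.1 : C ⧸ N → ℂ)
  let D : I → ℂ := fun i => X i + (m : ℂ) * ∑ j, δ j i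
  have hcardI : Fintype.card I = e := hXcard
  have hpe : p = 1 + m * Fintype.card I := by rw [hcardI, add_comm]; exact hcardY.symm
  -- the singular part of the inner products does not depend on the character
  set Sg : ℂ := (Nat.card (C ⧸ N) : ℂ)⁻¹ *
    ∑ q : C ⧸ N, (if p ∣ orderOf q then φ q else 0) with hSg
  have hsplit : ∀ i : I, (a i.1 : ℂ) * classInner φ (i.1 : C ⧸ N → ℂ) =
      (a i.1 : ℂ) * classInner (pRegularPart p φ) (i.1 : C ⧸ N → ℂ) + Sg := by
    intro i
    rw [hSg, inner_def, inner_def]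
    rw [mul_left_comm, mul_left_comm _ _ (∑ g, pRegularPart p φ g * _), ← mul_add]
    congr 1
    rw [Finset.mul_sum, Finset.mul_sum, ← Finset.sum_add_distrib]
    refine Finset.sum_congr rfl fun q _ => ?_
    rw [pRegularPart_apply]
    by_cases hq : p ∣ orderOf q
    · have h1 := congrArg conj (hsing i.1 i.2 q hq)
      rw [map_mul, map_intCast, map_one] at h1
      rw [if_neg (not_not.2 hq), if_pos hq, zero_mul, mul_zero, zero_add, mul_left_comm, h1, mul_one]
    · rw [if_pos hq, if_neg hq, add_zero]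
  have hdiff : ∀ i j : I, X j - X i = (p : ℂ) * δ j i := by
    intro i j
    simp only [X, δ, hvφ, hsplit]
    ring
  set Sx : ℂ := ∑ i, X i with hSx
  have hpD : ∀ i, (p : ℂ) * D i = X i + (m : ℂ) * Sx := by
    intro i
    have hp' : (p : ℂ) = 1 + (m : ℂ) * (Fintype.card I : ℂ) := by exact_mod_cast hpe
    have h1 : (p : ℂ) * ∑ j, δ j i = Sx - (Fintype.card I : ℂ) * X i := by
      rw [Finset.mul_sum, ← Finset.sum_congr rfl fun j _ => hdiff i j, Finset.sum_sub_distrib,
        Finset.sum_const, Finset.card_univ, nsmul_eq_mul]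
    calc (p : ℂ) * D i = (p : ℂ) * X i + (m : ℂ) * ((p : ℂ) * ∑ j, δ j i) := by
          simp only [D]; ring
      _ = X i + (m : ℂ) * Sx := by rw [h1, hp']; ring
  have hsumD : ∑ i, D i = Sx := by
    have hp0 : (p : ℂ) ≠ 0 := Nat.cast_ne_zero.2 hpp.ne_zero
    have hp' : (p : ℂ) = 1 + (m : ℂ) * (Fintype.card I : ℂ) := by exact_mod_cast hpe
    refine mul_left_cancel₀ hp0 ?_
    rw [Finset.mul_sum, Finset.sum_congr rfl fun i _ => hpD i, Finset.sum_add_distrib,
      Finset.sum_const, Finset.card_univ, nsmul_eq_mul, hp']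
    ring
  have hX : ∀ i, X i = (p : ℂ) * D i - (m : ℂ) * ∑ j, D j := fun i => by
    rw [hsumD, hpD]; ring
  have hXint : ∀ i, IsIntegral ℤ (X i) := fun i =>
    (isIntegral_algebraMap (R := ℤ) (A := ℂ) (x := a i.1)).mul (isIntegral_xval hH χ i.1)
  have hXmem : ∀ i, X i ∈ ℚ⟮rootN (Nat.card G)⟯ := fun i =>
    mul_mem (intCast_mem _ _) (xval_mem hH χ i.1)
  have hDint : ∀ i, IsIntegral ℤ (D i) := by
    intro i
    refine isIntegral_of_mem_loc (p := p) ?_ fun M' _ hpM' => ?_
    · rw [hpD]
      exact (hXint i).add ((isIntegral_algebraMap (R := ℤ) (A := ℂ) (x := (m : ℤ))).mul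
        (IsIntegral.sum _ fun j _ => hXint j))
    · haveI : M'.IsPrime := Ideal.IsMaximal.isPrime inferInstance
      have hspan : InCharSpan (loc M') φ := inCharSpan_transfer hN hp hfcl hpM'
        fun c => char_isIntegral (isCharacter_of_irr χ.2) _
      refine add_mem (isIntegral_mem_loc (hXint i)) (mul_mem (natCast_mem _ _) (sum_mem fun j _ => ?_))
      exact sub_mem (mul_mem (intCast_mem _ _) (hspan.2 _)) (mul_mem (intCast_mem _ _) (hspan.2 _))
  have hDmem : ∀ i, D i ∈ ℚ⟮rootN (Nat.card G)⟯ := by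
    intro i
    have h : D i = (X i + (m : ℂ) * Sx) / (p : ℂ) := by
      rw [← hpD, mul_div_cancel_left₀ _ (Nat.cast_ne_zero.2 hpp.ne_zero)]
    rw [h]
    exact div_mem (add_mem (hXmem i) (mul_mem (natCast_mem _ _) (sum_mem fun j _ => hXmem j)))
      (natCast_mem _ _)
  -- the values on the exceptional family
  have hexc : ∀ θ ∈ Y, v θ = (ε : ℂ) * Sx := by
    intro θ hθY
    have h : ∀ q : C ⧸ N, pRegularPart p φ q * conj ((θ : C ⧸ N → ℂ) q) =
        (ε : ℂ) * ∑ i : I, (a i.1 : ℂ) * (pRegularPart p φ q * conj ((i.1 : C ⧸ N → ℂ) q)) := by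
      intro q
      rw [pRegularPart_apply]
      by_cases hq : p ∣ orderOf q
      · simp [hq]
      · have h1 := hθ θ hθY q hq
        rw [finsum_mem_eq_sum_of_inter_support_eq (t := univ.filter (· ∈ b \ Y)) _ (by ext; simp),
          Finset.sum_subtype (p := (· ∈ b \ Y)) _ (fun η => by simp)] at h1
        have h2 : (θ : C ⧸ N → ℂ) q = (ε : ℂ) * ∑ i : I, (a i.1 : ℂ) * (i.1 : C ⧸ N → ℂ) q := by
          rw [← h1, ← mul_assoc, hεε, one_mul]
        rw [if_pos hq, h2, map_mul, map_intCast, map_sum, mul_left_comm, Finset.mul_sum]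
        congr 1
        refine Finset.sum_congr rfl fun i _ => ?_
        rw [map_mul, map_intCast]
        ring
    rw [hvφ, inner_def, Finset.sum_congr rfl fun q _ => h q, ← Finset.mul_sum, Finset.sum_comm]
    simp only [hSx, X, hvφ, inner_def, Finset.mul_sum]
    refine Finset.sum_congr rfl fun i _ => Finset.sum_congr rfl fun q _ => ?_
    ring
  -- some coordinate is not zero
  obtain ⟨i₀, hi₀⟩ : ∃ i, D i ≠ 0 := by
    by_contra h
    push Not at h
    have hX0 : ∀ i, X i = 0 := fun i => by simp [hX, h]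
    refine xval_principal_ne_zero hM hH hx N hχ1 hχ2 ?_
    by_cases hY' : principal (C ⧸ N) ∈ Y
    · show v _ = 0
      rw [hexc _ hY', hSx, Finset.sum_eq_zero fun i _ => hX0 i, mul_zero]
    · have h1 := hX0 ⟨principal (C ⧸ N), principal_mem_principalBlock M, hY'⟩
      refine (mul_eq_zero.1 h1).resolve_left (Int.cast_ne_zero.2 ?_)
      rcases hsign _ ⟨principal_mem_principalBlock M, hY'⟩ with h2 | h2 <;> rw [h2] <;> norm_num
  -- the bound
  have hQ : ∀ k : (ZMod (Nat.card G))ˣ,
      ∑ η ∈ univ.filter (· ∈ b), Complex.normSq (gal k (v η)) =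
      (p : ℝ) * (∑ i, Complex.normSq (gal k (D i)) +
        (m : ℝ) / 2 * ∑ i, ∑ j, Complex.normSq (gal k (D i) - gal k (D j))) := by
    intro k
    rw [← quad_complex (fun i => gal k (D i)) m p hpe,
      ← Finset.sum_filter_add_sum_filter_not (univ.filter (· ∈ b)) (· ∈ Y), add_comm]
    congr 1
    · rw [Finset.sum_subtype (p := (· ∈ b \ Y)) _ (fun η => by simp)]
      refine Finset.sum_congr rfl fun i _ => ?_
      rw [← map_sum, ← map_natCast (gal k) p, ← map_natCast (gal k) m, ← map_mul, ← map_mul,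
        ← map_sub, ← hX]
      simp only [X, map_mul, map_intCast, Complex.normSq_mul]
      rcases hsign i.1 i.2 with h | h <;> rw [h] <;> simp
    · have hcardF : ((univ.filter (· ∈ b)).filter (· ∈ Y)).card = m := by
        rw [hm, Nat.card_eq_fintype_card, ← Set.toFinset_card]
        congr 1
        ext η
        simp only [mem_filter, mem_univ, true_and, Set.mem_toFinset]
        exact ⟨fun h => h.2, fun h => ⟨hY h, h⟩⟩
      rw [Finset.sum_congr rfl fun η hη => by rw [hexc η (mem_filter.1 hη).2], Finset.sum_const,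
        hcardF, nsmul_eq_mul, map_mul, map_intCast, Complex.normSq_mul, ← hsumD, map_sum]
      rcases hε with rfl | rfl <;> simp
  have hcount := count_bound D m hm1 hi₀
  rw [hcardI] at hcount
  set Φ : ℝ := (Fintype.card (ZMod (Nat.card G))ˣ : ℝ) with hΦ
  have hΦ0 : 0 ≤ Φ := Nat.cast_nonneg _
  have hone : ∀ z : ℂ, z ∈ ℚ⟮rootN (Nat.card G)⟯ → IsIntegral ℤ z →
      Φ * (if z ≠ 0 then (1 : ℝ) else 0) ≤ ∑ k : (ZMod (Nat.card G))ˣ, Complex.normSq (gal k z) := by
    intro z hz hzi
    split_ifs with h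
    · rw [mul_one]; exact totient_le_sum_normSq hz hzi h
    · rw [mul_zero]; exact Finset.sum_nonneg fun _ _ => Complex.normSq_nonneg _
  rw [Finset.sum_congr rfl fun k _ => hQ k, ← Finset.mul_sum, Finset.sum_add_distrib,
    ← Finset.mul_sum, Nat.cast_mul, mul_left_comm]
  refine mul_le_mul_of_nonneg_left ?_ (Nat.cast_nonneg _)
  refine le_trans (mul_le_mul_of_nonneg_left hcount hΦ0) ?_
  rw [mul_add, mul_left_comm, Finset.mul_sum,
    Finset.sum_comm (s := (univ : Finset (ZMod (Nat.card G))ˣ)) (t := (univ : Finset I))]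
  refine add_le_add (Finset.sum_le_sum fun i _ => hone _ (hDmem i) (hDint i))
    (mul_le_mul_of_nonneg_left ?_ (by positivity))
  rw [Finset.mul_sum,
    Finset.sum_comm (s := (univ : Finset (ZMod (Nat.card G))ˣ)) (t := (univ : Finset I))]
  refine Finset.sum_le_sum fun i _ => ?_
  rw [Finset.mul_sum,
    Finset.sum_comm (s := (univ : Finset (ZMod (Nat.card G))ˣ)) (t := (univ : Finset I))]
  refine Finset.sum_le_sum fun j _ => ?_
  simp only [← map_sub, ← sub_ne_zero (a := D i)]
  exact hone _ (sub_mem (hDmem i) (hDmem j)) ((hDint i).sub (hDint j))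

/-- The bound for an arbitrary `p`-element with small centralizer. -/
theorem card_principal_le_sq (hM : IsPModular p M) {x : G} (hx : ∃ k, orderOf x = p ^ k)
    (ha : (Nat.card (Subgroup.centralizer ({x} : Set G))).factorization p ≤ 2) :
    Nat.card {χ : IrrCharacter G // χ ∈ principalBlock M G ∧ ¬ p ∣ charDegree (χ : G → ℂ)} ≤
      p ^ 2 := by
  classical
  have hpp : p.Prime := Fact.out
  -- a nontrivial element unless the order of `G` is prime to `p`
  obtain ⟨y, hy, hay, hcase⟩ : ∃ y : G, (∃ k, orderOf y = p ^ k) ∧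
      (Nat.card (Subgroup.centralizer ({y} : Set G))).factorization p ≤ 2 ∧
      (y ≠ 1 ∨ (Nat.card G).factorization p = 0) := by
    by_cases h1 : x = 1
    · subst h1
      have h2 : Subgroup.centralizer ({(1 : G)} : Set G) = ⊤ := by
        ext g; simp [Subgroup.mem_centralizer_singleton_iff]
      rw [h2, Subgroup.card_top] at ha
      rcases Nat.eq_zero_or_pos ((Nat.card G).factorization p) with h0 | h0
      · exact ⟨1, hx, by rw [h2, Subgroup.card_top]; exact ha, Or.inr h0⟩
      · obtain ⟨y, hy⟩ := exists_prime_orderOf_dvd_card' p (Nat.dvd_of_factorization_pos h0.ne')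
        refine ⟨y, ⟨1, by rw [hy, pow_one]⟩, le_trans ?_ ha, Or.inl fun h => ?_⟩
        · exact Finsupp.le_def.1 ((Nat.factorization_le_iff_dvd Nat.card_pos.ne'
            Nat.card_pos.ne').2 (Subgroup.card_subgroup_dvd_card _)) p
        · rw [h, orderOf_one] at hy
          exact hpp.ne_one hy.symm
    · exact ⟨x, hx, ha, Or.inl h1⟩
  set C := Subgroup.centralizer ({y} : Set G) with hC
  haveI : Fintype C := Fintype.ofFinite _
  have hyC : y ∈ C := Subgroup.mem_centralizer_singleton_iff.2 rfl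
  set N : Subgroup C := Subgroup.zpowers (⟨y, hyC⟩ : C) with hN
  have hNc : N ≤ Subgroup.center C := by
    rw [hN, Subgroup.zpowers_le, Subgroup.mem_center_iff]
    exact fun c => Subtype.ext (Subgroup.mem_centralizer_singleton_iff.1 c.2)
  haveI : N.Normal := ⟨fun n hn g => by
    rw [Subgroup.mem_center_iff.1 (hNc hn) g, mul_inv_cancel_right]; exact hn⟩
  obtain ⟨j, hj⟩ := hy
  have hNcard : Nat.card N = p ^ j := by
    rw [hN, Nat.card_zpowers, Subgroup.orderOf_mk, hj]
  have hfac : (Nat.card C).factorization p = N.index.factorization p + j := by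
    rw [← Subgroup.index_mul_card N, hNcard, Nat.factorization_mul
      Subgroup.index_ne_zero_of_finite (pow_ne_zero _ hpp.ne_zero), Finsupp.add_apply,
      hpp.factorization_pow, Finsupp.single_eq_same]
  by_cases hidx : p ∣ N.index
  · have h1 : 1 ≤ N.index.factorization p :=
      hpp.factorization_pos_of_dvd Subgroup.index_ne_zero_of_finite hidx
    rcases hcase with hy1 | h0
    · have hj1 : j ≠ 0 := fun h => hy1 (orderOf_eq_one_iff.1 (by rw [hj, h, pow_zero]))
      have ha2 : (Nat.card C).factorization p = 2 := by omega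
      exact card_le_of_prime_quotient hM (fun c => Subgroup.mem_centralizer_singleton_iff) ⟨j, hj⟩ N hNc
        (by rw [hNcard, show j = 1 by omega, pow_one]) ha2
    · have h2 := Finsupp.le_def.1 ((Nat.factorization_le_iff_dvd Nat.card_pos.ne'
        Nat.card_pos.ne').2 (Subgroup.card_subgroup_dvd_card C)) p
      omega
  · exact (card_le_of_regular_quotient hM (fun c => Subgroup.mem_centralizer_singleton_iff) ⟨j, hj⟩ N hNc (IsPGroup.of_card hNcard) hidx).trans
      (Nat.pow_le_pow_right hpp.pos hay)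

end CfsgLib.SmallCentralizer
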