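import Cfsg.Agent.Lib.CharApps.Galois
import Cfsg.Agent.Lib.Blocks.LocalRing

/-!
# The sum of the squared norms of the conjugates of an algebraic integer of a cyclotomic field
-/

set_option autoImplicit false
set_option linter.style.haveILetI false

namespace CfsgLib.SmallCentralizer

open Cfsg CfsgLib.CharApps CfsgLib.Blocks
open scoped ComplexConjugate IntermediateField

variable {N : ℕ} [NeZero N]

/-- A root of unity of order dividing `N` lies in the cyclotomic field. -/
theorem root_mem_cyclo {z : ℂ} (hz : z ^ N = 1) : z ∈ ℚ⟮rootN N⟯ := by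
  obtain ⟨i, -, rfl⟩ := (rootN_prim N).eq_pow_of_pow_eq_one hz
  exact pow_mem (IntermediateField.mem_adjoin_simple_self ℚ _) i

/-- Two endomorphisms agreeing on the roots of unity agree on the cyclotomic field. -/
theorem eq_on_cyclo {f g : ℂ →+* ℂ} (h : ∀ z : ℂ, z ^ N = 1 → f z = g z) {z : ℂ}
    (hz : z ∈ ℚ⟮rootN N⟯) : f z = g z := by
  induction hz using IntermediateField.adjoin_induction with
  | mem x hx =>
    obtain rfl : x = rootN N := hx
    exact h _ (rootN_prim N).pow_eq_one
  | algebraMap q =>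
    rw [show algebraMap ℚ ℂ q = (q : ℂ) from rfl, map_ratCast, map_ratCast]
  | add x y _ _ hx hy => rw [map_add, map_add, hx, hy]
  | inv x _ hx => rw [map_inv₀, map_inv₀, hx]
  | mul x y _ _ hx hy => rw [map_mul, map_mul, hx, hy]

/-- A chosen automorphism raising `N`-th roots of unity to the `k`-th power. -/
noncomputable def gal (k : (ZMod N)ˣ) : ℂ ≃+* ℂ :=
  (exists_galois_pow N (ZMod.val_coe_unit_coprime k)).choose

theorem gal_spec (k : (ZMod N)ˣ) {z : ℂ} (hz : z ^ N = 1) :
    gal k z = z ^ (k : ZMod N).val :=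
  (exists_galois_pow N (ZMod.val_coe_unit_coprime k)).choose_spec z hz

theorem gal_conj (k : (ZMod N)ˣ) {z : ℂ} (hz : z ∈ ℚ⟮rootN N⟯) :
    gal k (conj z) = conj (gal k z) := by
  refine eq_on_cyclo (f := (gal k).toRingHom.comp (starRingEnd ℂ))
    (g := (starRingEnd ℂ).comp (gal k).toRingHom) (fun w hw => ?_) hz
  have hw' : (conj w) ^ N = 1 := by rw [← map_pow, hw, map_one]
  show gal k (conj w) = conj (gal k w)
  rw [gal_spec k hw', gal_spec k hw, map_pow]

theorem gal_injective (k : (ZMod N)ˣ) : Function.Injective (gal k) := (gal k).injective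

/-- The mean of the squared norms of the conjugates of a nonzero algebraic integer is at least
one. -/
theorem totient_le_sum_normSq {z : ℂ} (hz : z ∈ ℚ⟮rootN N⟯) (hi : IsIntegral ℤ z) (h0 : z ≠ 0) :
    (Fintype.card (ZMod N)ˣ : ℝ) ≤ ∑ k : (ZMod N)ˣ, Complex.normSq (gal k z) := by
  classical
  have hmem : ∀ k : (ZMod N)ˣ, gal k z ∈ ℚ⟮rootN N⟯ := by
    intro k
    have hk : ∀ w ∈ ℚ⟮rootN N⟯, gal k w ∈ ℚ⟮rootN N⟯ := by
      intro w hw
      induction hw using IntermediateField.adjoin_induction with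
      | mem x hx =>
        obtain rfl : x = rootN N := hx
        rw [gal_spec k (rootN_prim N).pow_eq_one]
        exact pow_mem (IntermediateField.mem_adjoin_simple_self ℚ _) _
      | algebraMap q =>
        rw [show algebraMap ℚ ℂ q = (q : ℂ) from rfl, map_ratCast]
        exact (ℚ⟮rootN N⟯).algebraMap_mem q
      | add x y _ _ hx hy => rw [map_add]; exact add_mem hx hy
      | inv x _ hx => rw [map_inv₀]; exact inv_mem hx
      | mul x y _ _ hx hy => rw [map_mul]; exact mul_mem hx hy
    exact hk z hz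
  set P : ℂ := ∏ k : (ZMod N)ˣ, gal k z with hP
  have hPint : IsIntegral ℤ P :=
    IsIntegral.prod _ fun k _ => map_isIntegral_int (gal k).toRingHom hi
  have hPfix : ∀ (j : ℕ) (σ : ℂ ≃+* ℂ), j.Coprime N →
      (∀ w : ℂ, w ^ N = 1 → σ w = w ^ j) → σ P = P := by
    intro j σ hj hσ
    rw [hP, map_prod]
    refine Fintype.prod_equiv (Equiv.mulLeft (ZMod.unitOfCoprime j hj)) _ _ fun k => ?_
    refine eq_on_cyclo (f := σ.toRingHom.comp (gal k).toRingHom)
      (g := (gal (ZMod.unitOfCoprime j hj * k)).toRingHom) (fun w hw => ?_) hz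
    show σ (gal k w) = gal (ZMod.unitOfCoprime j hj * k) w
    rw [gal_spec k hw, map_pow, hσ w hw, gal_spec _ hw, ← pow_mul, Units.val_mul,
      ZMod.coe_unitOfCoprime, ZMod.val_mul, ZMod.val_natCast, Nat.mod_mul_mod,
      ← pow_eq_pow_mod _ hw]
  obtain ⟨m, hm⟩ := exists_int_of_rat hPint (exists_rat_of_fixed (prod_mem fun k _ => hmem k) hPfix)
  have hm0 : m ≠ 0 := by
    rintro rfl
    rw [Int.cast_zero] at hm
    exact Finset.prod_ne_zero_iff.2 (fun k _ h => h0 ((map_eq_zero (gal k)).1 h)) hm.symm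
  rw [← Finset.card_univ]
  refine card_le_sum_of_one_le_prod _ (fun k _ => Complex.normSq_nonneg _) ?_
  rw [← map_prod Complex.normSq, ← hP, ← hm, Complex.normSq_eq_norm_sq, Complex.norm_intCast]
  have h1 : (1 : ℝ) ≤ |(m : ℝ)| := by exact_mod_cast Int.one_le_abs hm0
  exact one_le_pow₀ h1

/-- An element with integral `p`-multiple, local at every maximal ideal over `p`, is integral. -/
theorem isIntegral_of_mem_loc {p : ℕ} {z : ℂ} (hp : IsIntegral ℤ ((p : ℂ) * z))
    (h : ∀ M : Ideal AlgInt, ∀ [M.IsMaximal], (p : AlgInt) ∈ M → z ∈ loc M) : IsIntegral ℤ z := by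
  let I : Ideal AlgInt :=
    { carrier := {s | IsIntegral ℤ ((s : ℂ) * z)}
      add_mem' := fun {a b} ha hb => by
        show IsIntegral ℤ (((a + b : AlgInt) : ℂ) * z)
        rw [show ((a + b : AlgInt) : ℂ) = a + b from rfl, add_mul]
        exact ha.add hb
      zero_mem' := by
        show IsIntegral ℤ (((0 : AlgInt) : ℂ) * z)
        rw [show ((0 : AlgInt) : ℂ) = 0 from rfl, zero_mul]
        exact isIntegral_zero
      smul_mem' := fun c a ha => by
        show IsIntegral ℤ (((c * a : AlgInt) : ℂ) * z)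
        rw [show ((c * a : AlgInt) : ℂ) = c * a from rfl, mul_assoc]
        exact c.2.mul ha }
  by_contra hz
  have hI : I ≠ ⊤ := fun hI => hz (by
    have h1 : ((1 : AlgInt) : ℂ) * z = z := by
      rw [show ((1 : AlgInt) : ℂ) = 1 from rfl, one_mul]
    rw [← h1]
    exact (show (1 : AlgInt) ∈ I by rw [hI]; trivial))
  obtain ⟨M, hM, hle⟩ := Ideal.exists_le_maximal I hI
  haveI := hM
  have hpM : (p : AlgInt) ∈ M := hle (by
    show IsIntegral ℤ (((p : AlgInt) : ℂ) * z)
    rwa [show ((p : AlgInt) : ℂ) = p from rfl])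
  obtain ⟨a, b, hb, hab⟩ := h M hpM
  refine hb (hle ?_)
  show IsIntegral ℤ ((b : ℂ) * z)
  have hb0 : (b : ℂ) ≠ 0 := fun e => hb (by
    rw [show b = 0 from Subtype.ext e]; exact M.zero_mem)
  rw [← hab, mul_div_cancel₀ _ hb0]
  exact a.2

end CfsgLib.SmallCentralizer
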